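import Mathlib

/-!
# Piece (G1) of S4316 (helper71, Guralnick–Shumyatsky): class size ≤ order of the derived subgroup
-/

set_option autoImplicit false

open scoped commutatorElement

namespace Cfsg.Agent.Helper24.GS

theorem card_le_card_commutator_mul {Γ : Type*} [Group Γ] [Finite Γ] (K : Subgroup Γ) {x : Γ}
    (hx : x ∈ K) :
    Nat.card K ≤ Nat.card ↥⁅K, K⁆ * Nat.card ↥(K ⊓ Subgroup.centralizer {x}) := by
  classical
  rw [← Nat.card_prod]
  let f : K → ↥⁅K, K⁆ := fun k => ⟨⁅(k : Γ), x⁆, Subgroup.commutator_mem_commutator k.2 hx⟩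
  let r : ↥⁅K, K⁆ → K := fun v => if h : ∃ k : K, f k = v then h.choose else 1
  have hr : ∀ k : K, f (r (f k)) = f k := by
    intro k
    have h : ∃ k' : K, f k' = f k := ⟨k, rfl⟩
    simp only [r, dif_pos h]
    exact h.choose_spec
  have hmem : ∀ k : K, ((r (f k) : Γ))⁻¹ * (k : Γ) ∈ K ⊓ Subgroup.centralizer {x} := by
    intro k
    refine Subgroup.mem_inf.mpr ⟨K.mul_mem (K.inv_mem (r (f k)).2) k.2, ?_⟩
    rw [Subgroup.mem_centralizer_singleton_iff]
    have h1 : ⁅((r (f k) : K) : Γ), x⁆ = ⁅(k : Γ), x⁆ := congrArg Subtype.val (hr k)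
    rw [commutatorElement_def, commutatorElement_def] at h1
    have h2 : ((r (f k) : K) : Γ) * x * ((r (f k) : K) : Γ)⁻¹ = (k : Γ) * x * (k : Γ)⁻¹ :=
      mul_right_cancel h1
    symm
    calc x * (((r (f k) : K) : Γ)⁻¹ * (k : Γ))
        = ((r (f k) : K) : Γ)⁻¹ * (((r (f k) : K) : Γ) * x * ((r (f k) : K) : Γ)⁻¹) * (k : Γ) := by
          group
      _ = ((r (f k) : K) : Γ)⁻¹ * ((k : Γ) * x * (k : Γ)⁻¹) * (k : Γ) := by rw [h2]
      _ = ((r (f k) : K) : Γ)⁻¹ * (k : Γ) * x := by group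
  apply Nat.card_le_card_of_injective
    (fun k : K => ((f k, ⟨_, hmem k⟩) : ↥⁅K, K⁆ × ↥(K ⊓ Subgroup.centralizer {x})))
  intro k k' h
  have h1 : f k = f k' := congrArg Prod.fst h
  have h2 : ((r (f k) : Γ))⁻¹ * (k : Γ) = ((r (f k') : Γ))⁻¹ * (k' : Γ) :=
    congrArg (fun z => ((z.2 : ↥(K ⊓ Subgroup.centralizer {x})) : Γ)) h
  rw [h1] at h2
  exact Subtype.ext (mul_left_cancel h2)

end Cfsg.Agent.Helper24.GS
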