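import Mathlib

/-!
# Piece (G13) of S4316 (helper71, Guralnick–Shumyatsky): class size of a commutator
-/

set_option autoImplicit false

namespace Cfsg.Agent.Helper24.GS

theorem g13_card_mul_relIndex {Γ : Type*} [Group Γ] {H N : Subgroup Γ} (h : H ≤ N) :
    Nat.card H * H.relIndex N = Nat.card N := by
  have := Subgroup.relIndex_mul_relIndex (⊥ : Subgroup Γ) H N bot_le h
  rwa [Subgroup.relIndex_bot_left, Subgroup.relIndex_bot_left] at this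

theorem card_le_sq_mul_of_commutator {Γ : Type*} [Group Γ] [Finite Γ] (N : Subgroup Γ) (x y : Γ)
    (n : ℕ) (hx : Nat.card N ≤ n * Nat.card ↥(N ⊓ Subgroup.centralizer {x}))
    (hy : Nat.card N ≤ n * Nat.card ↥(N ⊓ Subgroup.centralizer {y})) :
    Nat.card N ≤ n * n * Nat.card ↥(N ⊓ Subgroup.centralizer {x * y * x⁻¹ * y⁻¹}) := by
  set Hx : Subgroup Γ := N ⊓ Subgroup.centralizer {x} with hHx
  set Hy : Subgroup Γ := N ⊓ Subgroup.centralizer {y} with hHy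
  set Hc : Subgroup Γ := N ⊓ Subgroup.centralizer {x * y * x⁻¹ * y⁻¹} with hHc
  have hle : Hx ⊓ Hy ≤ Hc := by
    intro g hg
    obtain ⟨hg1, hg2⟩ := Subgroup.mem_inf.mp hg
    obtain ⟨hgN, hgx⟩ := Subgroup.mem_inf.mp hg1
    obtain ⟨_, hgy⟩ := Subgroup.mem_inf.mp hg2
    refine Subgroup.mem_inf.mpr ⟨hgN, ?_⟩
    rw [Subgroup.mem_centralizer_singleton_iff] at hgx hgy ⊢
    have hgx' : x⁻¹ * g = g * x⁻¹ := by
      calc x⁻¹ * g = x⁻¹ * g * (x * x⁻¹) := by group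
        _ = x⁻¹ * (g * x) * x⁻¹ := by group
        _ = x⁻¹ * (x * g) * x⁻¹ := by rw [hgx]
        _ = g * x⁻¹ := by group
    have hgy' : y⁻¹ * g = g * y⁻¹ := by
      calc y⁻¹ * g = y⁻¹ * g * (y * y⁻¹) := by group
        _ = y⁻¹ * (g * y) * y⁻¹ := by group
        _ = y⁻¹ * (y * g) * y⁻¹ := by rw [hgy]
        _ = g * y⁻¹ := by group
    symm
    calc x * y * x⁻¹ * y⁻¹ * g = x * y * x⁻¹ * (y⁻¹ * g) := by group
      _ = x * y * x⁻¹ * (g * y⁻¹) := by rw [hgy']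
      _ = x * y * (x⁻¹ * g) * y⁻¹ := by group
      _ = x * y * (g * x⁻¹) * y⁻¹ := by rw [hgx']
      _ = x * (y * g) * x⁻¹ * y⁻¹ := by group
      _ = x * (g * y) * x⁻¹ * y⁻¹ := by rw [hgy]
      _ = (x * g) * y * x⁻¹ * y⁻¹ := by group
      _ = (g * x) * y * x⁻¹ * y⁻¹ := by rw [hgx]
      _ = g * (x * y * x⁻¹ * y⁻¹) := by group
  have hxN : Hx ≤ N := inf_le_left
  have hyN : Hy ≤ N := inf_le_left
  have hdN : Hx ⊓ Hy ≤ N := inf_le_left.trans hxN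
  have e1 := g13_card_mul_relIndex hxN
  have e2 := g13_card_mul_relIndex hyN
  have e3 := g13_card_mul_relIndex hdN
  have hrel := Subgroup.relIndex_inf_le (H := Hx) (K := Hy) (L := N)
  have hd : Nat.card ↥(Hx ⊓ Hy) ≤ Nat.card Hc := Subgroup.card_le_of_le hle
  have hNpos : 0 < Nat.card N := Nat.card_pos
  have hapos : 0 < Nat.card Hx := Nat.card_pos
  have hbpos : 0 < Nat.card Hy := Nat.card_pos
  have hdpos : 0 < Nat.card ↥(Hx ⊓ Hy) := Nat.card_pos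
  -- abbreviations
  obtain ⟨a, ha⟩ : ∃ a, a = Nat.card Hx := ⟨_, rfl⟩
  obtain ⟨b, hb⟩ : ∃ b, b = Nat.card Hy := ⟨_, rfl⟩
  obtain ⟨d, hd'⟩ : ∃ d, d = Nat.card ↥(Hx ⊓ Hy) := ⟨_, rfl⟩
  obtain ⟨c, hc⟩ : ∃ c, c = Nat.card Hc := ⟨_, rfl⟩
  obtain ⟨m, hm⟩ : ∃ m, m = Nat.card N := ⟨_, rfl⟩
  obtain ⟨i, hi⟩ : ∃ i, i = Hx.relIndex N := ⟨_, rfl⟩
  obtain ⟨j, hj⟩ : ∃ j, j = Hy.relIndex N := ⟨_, rfl⟩
  obtain ⟨l, hl⟩ : ∃ l, l = (Hx ⊓ Hy).relIndex N := ⟨_, rfl⟩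
  rw [← ha, ← hi, ← hm] at e1
  rw [← hb, ← hj, ← hm] at e2
  rw [← hd', ← hl, ← hm] at e3
  rw [← hl, ← hi, ← hj] at hrel
  rw [← hd', ← hc] at hd
  rw [← hm, ← ha] at hx
  rw [← hm, ← hb] at hy
  rw [← hm] at hNpos
  rw [← ha] at hapos
  rw [← hb] at hbpos
  rw [← hd'] at hdpos
  rw [← hm, ← hc]
  -- a * b ≤ m * d
  have hab : a * b ≤ m * d := by
    have h1 : (d * l) * (a * b) ≤ (a * i) * (b * j) * d := by
      calc (d * l) * (a * b) = l * (a * b * d) := by ring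
        _ ≤ (i * j) * (a * b * d) := Nat.mul_le_mul_right _ hrel
        _ = (a * i) * (b * j) * d := by ring
    rw [e1, e2, e3] at h1
    have h2 : m * (a * b) ≤ m * (m * d) := by
      calc m * (a * b) ≤ m * m * d := h1
        _ = m * (m * d) := by ring
    exact Nat.le_of_mul_le_mul_left h2 hNpos
  have h3 : m * m ≤ m * (n * n * c) := by
    calc m * m ≤ (n * a) * (n * b) := Nat.mul_le_mul hx hy
      _ = n * n * (a * b) := by ring
      _ ≤ n * n * (m * d) := Nat.mul_le_mul_left _ hab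
      _ ≤ n * n * (m * c) := Nat.mul_le_mul_left _ (Nat.mul_le_mul_left _ hd)
      _ = m * (n * n * c) := by ring
  exact Nat.le_of_mul_le_mul_left h3 hNpos

end Cfsg.Agent.Helper24.GS
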