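import Mathlib

/-!
# Piece (G14) of S4316 (helper71, Guralnick–Shumyatsky)
-/

set_option autoImplicit false

namespace Cfsg.Agent.Helper24.GS

theorem conj_mem_closure {Γ : Type*} [Group Γ] (N : Subgroup Γ) (Y : Set Γ)
    (hY : ∀ g ∈ N, ∀ y ∈ Y, g * y * g⁻¹ ∈ Y) :
    ∀ g ∈ N, ∀ z ∈ Subgroup.closure Y, g * z * g⁻¹ ∈ Subgroup.closure Y := by
  intro g hg z hz
  induction hz using Subgroup.closure_induction with
  | mem y hy => exact Subgroup.subset_closure (hY g hg y hy)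
  | one => simp
  | mul a b _ _ ha hb =>
    have : g * (a * b) * g⁻¹ = (g * a * g⁻¹) * (g * b * g⁻¹) := by group
    rw [this]
    exact Subgroup.mul_mem _ ha hb
  | inv a _ ha =>
    have : g * a⁻¹ * g⁻¹ = (g * a * g⁻¹)⁻¹ := by group
    rw [this]
    exact Subgroup.inv_mem _ ha

end Cfsg.Agent.Helper24.GS
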