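import Mathlib

/-!
# Piece (G8) of S4316 (helper71, Guralnick–Shumyatsky)
-/

set_option autoImplicit false

open scoped commutatorElement

namespace Cfsg.Agent.Helper24.GS

theorem commutator_closure_le {Γ : Type*} [Group Γ] (X : Set Γ) (M : Subgroup Γ)
    (hM : ∀ x ∈ X, ∀ z ∈ M, x * z * x⁻¹ ∈ M ∧ x⁻¹ * z * x ∈ M)
    (hXY : ∀ x ∈ X, ∀ y ∈ X, x * y * x⁻¹ * y⁻¹ ∈ M) :
    ⁅Subgroup.closure X, Subgroup.closure X⁆ ≤ M := by
  -- step 1: the closure normalises `M`
  have h1 : ∀ g ∈ Subgroup.closure X, ∀ z ∈ M, g * z * g⁻¹ ∈ M ∧ g⁻¹ * z * g ∈ M := by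
    intro g hg
    induction hg using Subgroup.closure_induction with
    | mem x hx => exact hM x hx
    | one =>
      intro z hz
      simpa using hz
    | mul a b _ _ ha hb =>
      intro z hz
      constructor
      · have : a * b * z * (a * b)⁻¹ = a * (b * z * b⁻¹) * a⁻¹ := by group
        rw [this]
        exact (ha _ (hb z hz).1).1
      · have : (a * b)⁻¹ * z * (a * b) = b⁻¹ * (a⁻¹ * z * a) * b := by group
        rw [this]
        exact (hb _ (ha z hz).2).2
    | inv a _ ha =>
      intro z hz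
      constructor
      · have : a⁻¹ * z * a⁻¹⁻¹ = a⁻¹ * z * a := by group
        rw [this]
        exact (ha z hz).2
      · have : a⁻¹⁻¹ * z * a⁻¹ = a * z * a⁻¹ := by group
        rw [this]
        exact (ha z hz).1
  -- step 2: commutators with a generator
  have h2 : ∀ g ∈ Subgroup.closure X, ∀ y ∈ X, ⁅g, y⁆ ∈ M := by
    intro g hg y hy
    induction hg using Subgroup.closure_induction with
    | mem x hx =>
      rw [commutatorElement_def]
      exact hXY x hx y hy
    | one =>
      rw [commutatorElement_one_left]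
      exact M.one_mem
    | mul a b ha' _ ha hb =>
      have : ⁅a * b, y⁆ = a * ⁅b, y⁆ * a⁻¹ * ⁅a, y⁆ := by
        simp only [commutatorElement_def]
        group
      rw [this]
      exact M.mul_mem (h1 a ha' _ hb).1 ha
    | inv a ha' ha =>
      have : ⁅a⁻¹, y⁆ = a⁻¹ * ⁅a, y⁆⁻¹ * a := by
        simp only [commutatorElement_def]
        group
      rw [this]
      exact (h1 a ha' _ (M.inv_mem ha)).2
  -- step 3: all commutators
  rw [Subgroup.commutator_le]
  intro g hg h hh
  induction hh using Subgroup.closure_induction with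
  | mem y hy => exact h2 g hg y hy
  | one =>
    rw [commutatorElement_one_right]
    exact M.one_mem
  | mul a b ha' _ ha hb =>
    have : ⁅g, a * b⁆ = ⁅g, a⁆ * (a * ⁅g, b⁆ * a⁻¹) := by
      simp only [commutatorElement_def]
      group
    rw [this]
    exact M.mul_mem ha (h1 a ha' _ hb).1
  | inv a ha' ha =>
    have : ⁅g, a⁻¹⁆ = a⁻¹ * ⁅g, a⁆⁻¹ * a := by
      simp only [commutatorElement_def]
      group
    rw [this]
    exact (h1 a ha' _ (M.inv_mem ha)).2

end Cfsg.Agent.Helper24.GS
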